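import Groth.Agent.Koszul70.Homology
import Groth.Prelude.Def_DerCA
import Mathlib.Algebra.Homology.HomotopyCategory.MappingCone

/-!
# Mapping cones, element by element; localized complexes
-/

universe u

open CategoryTheory CategoryTheory.Limits CochainComplex HomologicalComplex

noncomputable section

namespace Groth.Agent.Koszul70

variable {A : Type u} [CommRing A]

/-- Complexes of modules. -/
abbrev Cx (A : Type u) [CommRing A] : Type (u + 1) := CochainComplex (ModuleCat.{u} A) ℤ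

/-- The homology of `K` is zero. -/
def Acyclic (K : Cx A) : Prop := ∀ j, ∀ z : K.X j, (K.d j (j + 1)).hom z = 0 →
  ∀ i, i + 1 = j → ∃ y, (K.d i j).hom y = z

/-- Every class is killed by a power of `f`. -/
def Tors (f : A) (K : Cx A) : Prop := ∀ j, ∀ z : K.X j, (K.d j (j + 1)).hom z = 0 →
  ∀ i, i + 1 = j → ∃ (n : ℕ) (y : K.X i), (K.d i j).hom y = f ^ n • z

/-- Cycles in degree `j`. -/
def mkCycle (K : Cx A) {j : ℤ} (z : K.X j) (hz : (K.d j (j + 1)).hom z = 0) :
    LinearMap.ker (K.d j ((ComplexShape.up ℤ).next j)).hom :=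
  ⟨z, by rw [CochainComplex.next]; exact hz⟩

theorem cycle_eq (K : Cx A) {j : ℤ} (z : LinearMap.ker (K.d j ((ComplexShape.up ℤ).next j)).hom) :
    (K.d j (j + 1)).hom z.1 = 0 := by
  have h : j + 1 = (ComplexShape.up ℤ).next j := (CochainComplex.next ℤ j).symm
  rw [h]
  exact z.2

theorem exists_prev_iff (K : Cx A) {j : ℤ} (z : K.X j) :
    (∃ y, (K.d ((ComplexShape.up ℤ).prev j) j).hom y = z) ↔ ∀ i, i + 1 = j → ∃ y, (K.d i j).hom y = z := by
  constructor
  · intro h i hi
    rwa [(ComplexShape.up ℤ).prev_eq' hi] at h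
  · intro h
    exact h _ (by rw [CochainComplex.prev]; omega)

theorem acyclic_iff (K : Cx A) : Acyclic K ↔ ∀ j, IsZero (K.homology j) := by
  constructor
  · intro h j
    refine ModuleCat.isZero_iff_subsingleton.2 ⟨fun a b => ?_⟩
    obtain ⟨z, hz⟩ := cls_surjective K j (a - b)
    rw [← sub_eq_zero, ← hz, cls_eq_zero_iff, exists_prev_iff]
    exact h j z.1 (cycle_eq K z)
  · intro h j z hz
    haveI := ModuleCat.isZero_iff_subsingleton.1 (h j)
    exact (exists_prev_iff K z).1 ((cls_eq_zero_iff K j (mkCycle K z hz)).1 (Subsingleton.elim _ _))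

theorem tors_iff (f : A) (K : Cx A) : Tors f K ↔ ∀ j, ∀ x : K.homology j, ∃ n : ℕ, f ^ n • x = 0 := by
  constructor
  · intro h j x
    obtain ⟨z, rfl⟩ := cls_surjective K j x
    obtain ⟨n, y, hy⟩ := h j z.1 (cycle_eq K z) (j - 1) (by omega)
    refine ⟨n, ?_⟩
    rw [← map_smul, cls_eq_zero_iff, exists_prev_iff]
    rintro i hi
    obtain rfl : i = j - 1 := by omega
    exact ⟨y, hy⟩
  · intro h j z hz i hi
    obtain ⟨n, hn⟩ := h j (cls K j (mkCycle K z hz))
    rw [← map_smul, cls_eq_zero_iff, exists_prev_iff] at hn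
    exact ⟨n, hn i hi⟩

/-- Linear equivalence between two quotients of the same module. -/
def equivOfKer {M N P : Type u} [AddCommGroup M] [Module A M] [AddCommGroup N] [Module A N]
    [AddCommGroup P] [Module A P] (f : M →ₗ[A] N) (g : M →ₗ[A] P) (hf : Function.Surjective f)
    (hg : Function.Surjective g) (h : ∀ x, f x = 0 ↔ g x = 0) : N ≃ₗ[A] P :=
  (f.quotKerEquivOfSurjective hf).symm ≪≫ₗ Submodule.quotEquivOfEq _ _
    (Submodule.ext fun x => by simp only [LinearMap.mem_ker, h]) ≪≫ₗ g.quotKerEquivOfSurjective hg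

section Cone

variable {K L : Cx A} (φ : K ⟶ L)

/-- First component. -/
def cfst (p q : ℤ) (h : p + 1 = q) : (mappingCone φ).X p →ₗ[A] K.X q :=
  ((mappingCone.fst φ).1.v p q h).hom

/-- Second component. -/
def csnd (p : ℤ) : (mappingCone φ).X p →ₗ[A] L.X p :=
  ((mappingCone.snd φ).v p p (add_zero p)).hom

/-- An element from its first component. -/
def cinl (p q : ℤ) (h : p + 1 = q) : K.X q →ₗ[A] (mappingCone φ).X p :=
  ((mappingCone.inl φ).v q p (by omega)).hom

/-- An element from its second component. -/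
def cinr (p : ℤ) : L.X p →ₗ[A] (mappingCone φ).X p := ((mappingCone.inr φ).f p).hom

variable {p q : ℤ} (h : p + 1 = q)

@[simp] theorem cfst_cinl (x : K.X q) : cfst φ p q h (cinl φ p q h x) = x :=
  ConcreteCategory.congr_hom (mappingCone.inl_v_fst_v φ q p h) x

@[simp] theorem csnd_cinl (x : K.X q) : csnd φ p (cinl φ p q h x) = 0 :=
  ConcreteCategory.congr_hom (mappingCone.inl_v_snd_v φ q p (by omega)) x

@[simp] theorem cfst_cinr (y : L.X p) : cfst φ p q h (cinr φ p y) = 0 :=
  ConcreteCategory.congr_hom (mappingCone.inr_f_fst_v φ p q h) y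

@[simp] theorem csnd_cinr (y : L.X p) : csnd φ p (cinr φ p y) = y :=
  ConcreteCategory.congr_hom (mappingCone.inr_f_snd_v φ p) y

include h in
theorem cone_ext {z z' : (mappingCone φ).X p} (h₁ : cfst φ p q h z = cfst φ p q h z')
    (h₂ : csnd φ p z = csnd φ p z') : z = z' := by
  have e : ∀ w, cinl φ p q h (cfst φ p q h w) + cinr φ p (csnd φ p w) = w := fun w => by
    have := ConcreteCategory.congr_hom (mappingCone.id_X φ p q h) w
    simpa [cinl, cinr, cfst, csnd] using this
  rw [← e z, ← e z', h₁, h₂]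

theorem cfst_d {r : ℤ} (h' : q + 1 = r) (z : (mappingCone φ).X p) :
    cfst φ q r h' (((mappingCone φ).d p q).hom z) = -(K.d q r).hom (cfst φ p q h z) := by
  have := ConcreteCategory.congr_hom (mappingCone.d_fst_v φ p q r h h') z
  simpa [cfst] using this

include h in
theorem csnd_d (z : (mappingCone φ).X p) :
    csnd φ q (((mappingCone φ).d p q).hom z) =
      (φ.f q).hom (cfst φ p q h z) + (L.d p q).hom (csnd φ p z) := by
  have := ConcreteCategory.congr_hom (mappingCone.d_snd_v φ p q h) z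
  simpa [cfst, csnd] using this

theorem cycle_cone {z : (mappingCone φ).X p} (hq : p + 1 = q) :
    ((mappingCone φ).d p q).hom z = 0 ↔
      (K.d q (q + 1)).hom (cfst φ p q hq z) = 0 ∧ (φ.f q).hom (cfst φ p q hq z) + (L.d p q).hom (csnd φ p z) = 0 := by
  constructor
  · intro hz
    exact ⟨neg_eq_zero.1 (by rw [← cfst_d φ hq rfl z, hz, map_zero]),
      by rw [← csnd_d φ hq z, hz, map_zero]⟩
  · rintro ⟨h₁, h₂⟩
    refine cone_ext φ (q := q + 1) rfl ?_ ?_
    · rw [cfst_d φ hq rfl z, h₁, neg_zero, map_zero]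
    · rw [csnd_d φ hq z, h₂, map_zero]

/-- Boundaries whose first component vanishes. -/
theorem d_cinr (y : L.X p) : ((mappingCone φ).d p q).hom (cinr φ p y) = cinr φ q ((L.d p q).hom y) := by
  exact (ConcreteCategory.congr_hom ((mappingCone.inr φ).comm p q) y)

/-- A morphism with acyclic target. -/
theorem cone_homology_equiv (hL : Acyclic L) (j : ℤ) :
    Nonempty ((mappingCone φ).homology j ≃ₗ[A] K.homology (j + 1)) := by
  let g : LinearMap.ker ((mappingCone φ).d j ((ComplexShape.up ℤ).next j)).hom →ₗ[A]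
      LinearMap.ker (K.d (j + 1) ((ComplexShape.up ℤ).next (j + 1))).hom :=
    ((cfst φ j (j + 1) rfl).comp (Submodule.subtype _)).codRestrict _ fun z =>
      (mkCycle K _ ((cycle_cone φ rfl).1 (cycle_eq _ z)).1).2
  refine ⟨equivOfKer (cls _ j) ((cls K (j + 1)).comp g) (cls_surjective _ _) (fun w => ?_) fun z => ?_⟩
  · obtain ⟨x, rfl⟩ := cls_surjective K (j + 1) w
    have hx := cycle_eq K x
    obtain ⟨y, hy⟩ := hL (j + 1) ((φ.f (j + 1)).hom x.1) (by
      refine (ConcreteCategory.congr_hom (φ.comm (j + 1) (j + 1 + 1)) x.1).trans ?_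
      show (φ.f _).hom ((K.d _ _).hom x.1) = 0
      rw [hx, map_zero]) j rfl
    let z := cinl φ j (j + 1) rfl x.1 - cinr φ j y
    have hz : ((mappingCone φ).d j (j + 1)).hom z = 0 :=
      (cycle_cone φ rfl).2 ⟨by simp [z, hx], by simp [z, hy]⟩
    exact ⟨mkCycle _ z hz, congrArg (cls K (j + 1)) (Subtype.ext (show cfst φ j (j + 1) rfl z = x.1 by simp [z]))⟩
  · rw [LinearMap.comp_apply, cls_eq_zero_iff, cls_eq_zero_iff, exists_prev_iff, exists_prev_iff]
    have hz := (cycle_cone φ rfl).1 (cycle_eq _ z)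
    constructor
    · intro h i hi
      obtain rfl : i = j := by omega
      obtain ⟨y, hy⟩ := h (i - 1) (by omega)
      refine ⟨-cfst φ (i - 1) i (by omega) y, ?_⟩
      show _ = cfst φ i (i + 1) rfl z.1
      rw [← hy, cfst_d φ (by omega : i - 1 + 1 = i) rfl, map_neg]
    · intro h i hi
      obtain ⟨x, hx⟩ := h j rfl
      replace hx : (K.d j (j + 1)).hom x = cfst φ j (j + 1) rfl z.1 := hx
      obtain ⟨v, hv⟩ := hL j (csnd φ j z.1 + (φ.f j).hom x) (by
        rw [map_add]
        refine (add_comm _ _).trans ?_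
        refine Eq.trans ?_ hz.2
        congr 1
        rw [← hx]
        exact (ConcreteCategory.congr_hom (φ.comm j (j + 1)) x)) i hi
      refine ⟨cinl φ i j hi (-x) + cinr φ i v, cone_ext φ rfl ?_ ?_⟩
      · rw [cfst_d φ hi rfl]; simp [hx]
      · rw [csnd_d φ hi]; simp [hv]

theorem acyclic_cone (hK : Acyclic K) (hL : Acyclic L) : Acyclic (mappingCone φ) :=
  (acyclic_iff _).2 fun j => by
    obtain ⟨e⟩ := cone_homology_equiv φ hL j
    exact ((acyclic_iff K).1 hK (j + 1)).of_iso e.toModuleIso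

theorem acyclic_cone_of_bijective (hφ : ∀ n, Function.Bijective (φ.f n).hom) :
    Acyclic (mappingCone φ) := by
  intro j z hz i hi
  have hz' := (cycle_cone φ rfl).1 hz
  obtain ⟨w, hw⟩ := (hφ j).2 (csnd φ j z)
  refine ⟨cinl φ i j hi w, cone_ext φ (q := j + 1) rfl ?_ ?_⟩
  · rw [cfst_d φ hi rfl, cfst_cinl, eq_comm]
    refine eq_neg_of_add_eq_zero_left ((hφ (j + 1)).1 ?_)
    rw [map_add, map_zero]
    refine Eq.trans ?_ hz'.2
    rw [← hw]
    congr 1
    exact (ConcreteCategory.congr_hom (φ.comm j (j + 1)) w).symm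
  · rw [csnd_d φ hi, cfst_cinl, csnd_cinl, map_zero, add_zero, hw]

theorem tors_cone {f : A} (hK : Tors f K) (hL : Tors f L) : Tors f (mappingCone φ) := by
  intro j z hz i hi
  have hz' := (cycle_cone φ rfl).1 hz
  obtain ⟨a, w, hw⟩ := hK (j + 1) _ hz'.1 j rfl
  obtain ⟨b, v, hv⟩ := hL j (f ^ a • csnd φ j z + (φ.f j).hom w) (by
    rw [map_add, map_smul]
    refine (add_comm _ _).trans ?_
    refine Eq.trans ?_ ((congrArg (f ^ a • ·) hz'.2).trans (smul_zero (f ^ a)))
    show _ = f ^ a • (_ + _)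
    rw [smul_add]
    congr 1
    rw [← map_smul, ← hw]
    exact (ConcreteCategory.congr_hom (φ.comm j (j + 1)) w)) i hi
  refine ⟨b + a, cinl φ i j hi (-(f ^ b • w)) + cinr φ i v, cone_ext φ rfl ?_ ?_⟩
  · rw [cfst_d φ hi rfl, map_smul]
    simp [hw, pow_add, mul_smul]
  · rw [csnd_d φ hi, map_smul]
    simp [hv, pow_add, mul_smul]

end Cone

section Loc

/-- Localization at the powers of `f`, termwise. -/
abbrev loc (f : A) : Cx A ⥤ Cx A := DerCA.locCx (Submonoid.powers f)

/-- The localization map. -/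
abbrev locu (f : A) (K : Cx A) : K ⟶ (loc f).obj K := DerCA.locCxUnit (Submonoid.powers f) K

theorem locu_apply (f : A) (K : Cx A) (n : ℤ) (x : K.X n) :
    ((locu f K).f n).hom x = LocalizedModule.mk x 1 := rfl

theorem loc_d_mk (f : A) (K : Cx A) (i j : ℤ) (x : K.X i) (s : Submonoid.powers f) :
    (((loc f).obj K).d i j).hom (LocalizedModule.mk x s) = LocalizedModule.mk ((K.d i j).hom x) s := by
  show IsLocalizedModule.map (Submonoid.powers f) (LocalizedModule.mkLinearMap _ (K.X i))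
    (LocalizedModule.mkLinearMap _ (K.X j)) (K.d i j).hom _ = _
  rw [IsLocalizedModule.mk_eq_mk', IsLocalizedModule.map_mk', IsLocalizedModule.mk_eq_mk']

theorem smul_bijective_loc (f : A) (K : Cx A) (n : ℤ) (s : Submonoid.powers f) :
    Function.Bijective (fun x : ((loc f).obj K).X n => (s : A) • x) :=
  (Module.End.isUnit_iff _).1
    (IsLocalizedModule.map_units (LocalizedModule.mkLinearMap (Submonoid.powers f) (K.X n)) s)

theorem loc_exists_mk (f : A) (K : Cx A) (n : ℤ) (x : ((loc f).obj K).X n) :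
    ∃ (m : K.X n) (a : ℕ), f ^ a • x = ((locu f K).f n).hom m := by
  obtain ⟨m, ⟨_, a, rfl⟩, rfl⟩ : ∃ m s, x = LocalizedModule.mk m s :=
    LocalizedModule.induction_on (fun m s => ⟨m, s, rfl⟩) x
  let t : Submonoid.powers f := ⟨f ^ a, a, rfl⟩
  exact ⟨m, a, (LocalizedModule.smul'_mk (M := K.X n) _ m t).trans (LocalizedModule.mk_cancel t m)⟩

theorem loc_mk_eq_zero (f : A) (K : Cx A) (n : ℤ) (m : K.X n) :
    ((locu f K).f n).hom m = 0 ↔ ∃ a : ℕ, f ^ a • m = 0 := by
  show LocalizedModule.mkLinearMap (Submonoid.powers f) (K.X n) m = 0 ↔ _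
  rw [IsLocalizedModule.eq_zero_iff (Submonoid.powers f)]
  constructor
  · rintro ⟨⟨_, a, rfl⟩, h⟩; exact ⟨a, h⟩
  · rintro ⟨a, h⟩; exact ⟨⟨_, a, rfl⟩, h⟩

theorem acyclic_loc {f : A} {K : Cx A} (h : Tors f K) : Acyclic ((loc f).obj K) := by
  intro j x hx i hi
  obtain ⟨m, a, ha⟩ := loc_exists_mk f K j x
  have hd : ((locu f K).f (j + 1)).hom ((K.d j (j + 1)).hom m) = 0 := by
    refine Eq.trans (ConcreteCategory.congr_hom ((locu f K).comm j (j + 1)) m).symm ?_
    show (((loc f).obj K).d j (j + 1)).hom (((locu f K).f j).hom m) = 0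
    rw [← ha, map_smul, hx, smul_zero]
  obtain ⟨b, hb⟩ := (loc_mk_eq_zero _ _ _ _).1 hd
  obtain ⟨c, y, hy⟩ := h j (f ^ b • m) (by rw [map_smul, hb]) i hi
  obtain ⟨w, hw⟩ := (smul_bijective_loc f K i ⟨_, c + b + a, rfl⟩).2 (((locu f K).f i).hom y)
  refine ⟨w, (smul_bijective_loc f K j ⟨_, c + b + a, rfl⟩).1 ?_⟩
  show f ^ (c + b + a) • _ = f ^ (c + b + a) • x
  replace hw : f ^ (c + b + a) • w = ((locu f K).f i).hom y := hw
  rw [← map_smul, hw, pow_add, mul_smul, ha, ← map_smul]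
  refine (ConcreteCategory.congr_hom ((locu f K).comm i j) y).trans (congrArg ((locu f K).f j).hom ?_)
  show (K.d i j).hom y = _
  rw [hy, pow_add, mul_smul]

theorem tors_loc {f g : A} {K : Cx A} (h : Tors g K) : Tors g ((loc f).obj K) := by
  intro j x hx i hi
  obtain ⟨m, a, ha⟩ := loc_exists_mk f K j x
  have hd : ((locu f K).f (j + 1)).hom ((K.d j (j + 1)).hom m) = 0 := by
    refine Eq.trans (ConcreteCategory.congr_hom ((locu f K).comm j (j + 1)) m).symm ?_
    show (((loc f).obj K).d j (j + 1)).hom (((locu f K).f j).hom m) = 0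
    rw [← ha, map_smul, hx, smul_zero]
  obtain ⟨b, hb⟩ := (loc_mk_eq_zero _ _ _ _).1 hd
  obtain ⟨c, y, hy⟩ := h j (f ^ b • m) (by rw [map_smul, hb]) i hi
  obtain ⟨w, hw⟩ := (smul_bijective_loc f K i ⟨_, b + a, rfl⟩).2 (((locu f K).f i).hom y)
  refine ⟨c, w, (smul_bijective_loc f K j ⟨_, b + a, rfl⟩).1 ?_⟩
  show f ^ (b + a) • _ = f ^ (b + a) • g ^ c • x
  replace hw : f ^ (b + a) • w = ((locu f K).f i).hom y := hw
  rw [← map_smul, hw, smul_comm, pow_add, mul_smul, ha, ← map_smul, ← map_smul]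
  refine (ConcreteCategory.congr_hom ((locu f K).comm i j) y).trans (congrArg ((locu f K).f j).hom ?_)
  exact hy

theorem tors_cone_locu (f : A) (K : Cx A) : Tors f (mappingCone (locu f K)) := by
  intro j z hz i hi
  have hz' := (cycle_cone _ rfl).1 hz
  obtain ⟨m, a, ha⟩ := loc_exists_mk f K j (csnd (locu f K) j z)
  have h0 : ((locu f K).f (j + 1)).hom
      (f ^ a • cfst (locu f K) j (j + 1) rfl z + (K.d j (j + 1)).hom m) = 0 := by
    refine Eq.trans ?_ ((congrArg (f ^ a • ·) hz'.2).trans (smul_zero _))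
    rw [map_add, map_smul, smul_add]
    congr 1
    rw [← map_smul, ha]
    exact (ConcreteCategory.congr_hom ((locu f K).comm j (j + 1)) m).symm
  obtain ⟨b, hb⟩ := (loc_mk_eq_zero _ _ _ _).1 h0
  rw [smul_add, smul_smul, ← pow_add, ← map_smul] at hb
  refine ⟨b + a, cinl (locu f K) i j hi (f ^ b • m), cone_ext _ rfl ?_ ?_⟩
  · rw [cfst_d _ hi rfl, cfst_cinl, (cfst _ _ _ _).map_smul]
    rw [map_smul]
    rw [(cfst _ _ _ _).map_smul] at hb
    exact (eq_neg_of_add_eq_zero_left hb).symm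
  · rw [csnd_d _ hi, cfst_cinl, csnd_cinl, map_zero, add_zero, (csnd _ _).map_smul, pow_add,
      mul_smul, ha, map_smul]

end Loc

end Groth.Agent.Koszul70
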