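import Groth.Prelude.Def_ega3
import Mathlib.Algebra.Homology.ShortComplex.ModuleCat
import Mathlib.Algebra.Colimit.Module

/-!
# Classes of cycles; homology of a direct limit of complexes
-/

universe u

open CategoryTheory CategoryTheory.Limits HomologicalComplex

noncomputable section

namespace Groth.Agent.Koszul70

variable {A : Type u} [CommRing A] {ι : Type*} {c : ComplexShape ι}

/-- The class of a cycle. -/
def cls (K : HomologicalComplex (ModuleCat.{u} A) c) (i : ι) :
    LinearMap.ker (K.d i (c.next i)).hom →ₗ[A] K.homology i :=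
  ((K.sc i).moduleCatCyclesIso.inv ≫ K.homologyπ i).hom

theorem iCycles_cyclesInv (K : HomologicalComplex (ModuleCat.{u} A) c) (i : ι)
    (z : LinearMap.ker (K.d i (c.next i)).hom) :
    (K.iCycles i).hom ((K.sc i).moduleCatCyclesIso.inv.hom z) = z.1 :=
  ConcreteCategory.congr_hom (K.sc i).moduleCatCyclesIso_inv_iCycles z

theorem cls_surjective (K : HomologicalComplex (ModuleCat.{u} A) c) (i : ι) :
    Function.Surjective (cls K i) := by
  exact (ModuleCat.epi_iff_surjective ((K.sc i).moduleCatCyclesIso.inv ≫ K.homologyπ i)).1 (epi_comp' inferInstance (inferInstanceAs (Epi (K.sc i).homologyπ)))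

theorem cls_eq_zero_iff (K : HomologicalComplex (ModuleCat.{u} A) c) (i : ι)
    (z : LinearMap.ker (K.d i (c.next i)).hom) :
    cls K i z = 0 ↔ ∃ y, (K.d (c.prev i) i).hom y = z.1 := by
  let e := (K.sc i).moduleCatHomologyIso
  have h : e.hom (cls K i z) = Submodule.Quotient.mk z := by
    have h' : ((K.sc i).moduleCatCyclesIso.inv ≫ (K.sc i).homologyπ) ≫ e.hom =
        (K.sc i).moduleCatLeftHomologyData.π := by
      rw [Category.assoc, (K.sc i).π_moduleCatCyclesIso_hom, Iso.inv_hom_id_assoc]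
    exact ConcreteCategory.congr_hom h' z
  refine Iff.trans (e.toLinearEquiv.map_eq_zero_iff (x := cls K i z)).symm ?_
  show e.hom (cls K i z) = 0 ↔ _
  rw [h]
  refine (Submodule.Quotient.mk_eq_zero _).trans ⟨?_, ?_⟩
  · rintro ⟨y, hy⟩
    exact ⟨y, congrArg Subtype.val hy⟩
  · rintro ⟨y, hy⟩
    exact ⟨y, Subtype.ext hy⟩

theorem map_mem_ker {K L : HomologicalComplex (ModuleCat.{u} A) c} (φ : K ⟶ L) (i : ι)
    (z : LinearMap.ker (K.d i (c.next i)).hom) :
    (φ.f i).hom z.1 ∈ LinearMap.ker (L.d i (c.next i)).hom := by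
  have h : (φ.f i ≫ L.d i (c.next i)).hom z.1 = 0 := by
    rw [φ.comm]
    show (φ.f _).hom ((K.d i (c.next i)).hom z.1) = 0
    rw [LinearMap.mem_ker.1 z.2, map_zero]
  exact h

theorem homologyMap_cls {K L : HomologicalComplex (ModuleCat.{u} A) c} (φ : K ⟶ L) (i : ι)
    (z : LinearMap.ker (K.d i (c.next i)).hom) :
    (homologyMap φ i).hom (cls K i z) = cls L i ⟨(φ.f i).hom z.1, map_mem_ker φ i z⟩ := by
  refine (ConcreteCategory.congr_hom (homologyπ_naturality φ i)
    ((K.sc i).moduleCatCyclesIso.inv.hom z)).trans (congrArg (L.homologyπ i).hom ?_)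
  refine (ModuleCat.mono_iff_injective (L.iCycles i)).1 inferInstance ?_
  refine (ConcreteCategory.congr_hom (cyclesMap_i φ i) ((K.sc i).moduleCatCyclesIso.inv.hom z)).trans ?_
  refine Eq.trans ?_ (iCycles_cyclesInv L i ⟨_, map_mem_ker φ i z⟩).symm
  exact congrArg (φ.f i).hom (iCycles_cyclesInv K i z)

/-- The homology of a complex which is, element by element, the direct limit of complexes. -/
theorem colim_homology {L : HomologicalComplex (ModuleCat.{u} A) c}
    (G : ℕ → HomologicalComplex (ModuleCat.{u} A) c) (t : ∀ n m, n ≤ m → (G n ⟶ G m))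
    (ψ : ∀ n, G n ⟶ L) (hψ : ∀ n m h, t n m h ≫ ψ m = ψ n)
    (hsurj : ∀ i (x : L.X i), ∃ n y, ((ψ n).f i).hom y = x)
    (hinj : ∀ n i (y : (G n).X i), ((ψ n).f i).hom y = 0 → ∃ m, ∃ h : n ≤ m, ((t n m h).f i).hom y = 0)
    (i : ι) :
    Nonempty (Module.DirectLimit (fun n => ((G n).homology i : Type u))
      (fun n m h => (homologyMap (t n m h) i).hom) ≃ₗ[A] L.homology i) := by
  have hψ' : ∀ n m h i' (y : (G n).X i'), ((ψ m).f i').hom (((t n m h).f i').hom y) = ((ψ n).f i').hom y :=
    fun n m h i' y => ConcreteCategory.congr_hom (congrArg (fun f => f.f i') (hψ n m h)) y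
  let F := Module.DirectLimit.lift A ℕ (fun n => ((G n).homology i : Type u))
    (fun n m h => (homologyMap (t n m h) i).hom) (fun n => (homologyMap (ψ n) i).hom)
    (fun n m h x => by
      show (homologyMap (t n m h) i ≫ homologyMap (ψ m) i).hom x = _
      rw [← homologyMap_comp, hψ])
  refine ⟨LinearEquiv.ofBijective F ⟨?_, ?_⟩⟩
  · refine (injective_iff_map_eq_zero F).2 fun x hx => ?_
    obtain ⟨n, w, rfl⟩ := Module.DirectLimit.exists_of x
    obtain ⟨z, rfl⟩ := cls_surjective (G n) i w
    simp only [F, Module.DirectLimit.lift_of] at hx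
    rw [homologyMap_cls] at hx
    obtain ⟨y, hy⟩ := (cls_eq_zero_iff _ _ _).1 hx
    obtain ⟨n', v, rfl⟩ := hsurj _ y
    let p := max n n'
    let w := ((t n p (le_max_left _ _)).f i).hom z.1 -
      ((G p).d (c.prev i) i).hom (((t n' p (le_max_right _ _)).f _).hom v)
    have hw : ((ψ p).f i).hom w = 0 := by
      simp only [w, map_sub, hψ']
      refine sub_eq_zero.2 ?_
      refine hy.symm.trans ?_
      rw [← hψ' n' p (le_max_right _ _) _ v]
      exact (ConcreteCategory.congr_hom ((ψ p).comm (c.prev i) i) _)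
    obtain ⟨m, hm, hm'⟩ := hinj p i w hw
    have e : Module.DirectLimit.of A ℕ (fun n => ((G n).homology i : Type u))
        (fun n m h => (homologyMap (t n m h) i).hom) m
        ((homologyMap (t p m hm) i).hom ((homologyMap (t n p (le_max_left _ _)) i).hom (cls (G n) i z))) = 0 := by
      rw [homologyMap_cls, homologyMap_cls, (cls_eq_zero_iff _ _ _).2, map_zero]
      refine ⟨((t p m hm).f _).hom (((t n' p (le_max_right _ _)).f _).hom v), ?_⟩
      simp only [w, map_sub, sub_eq_zero] at hm'
      refine Eq.trans ?_ hm'.symm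
      exact (ConcreteCategory.congr_hom ((t p m hm).comm (c.prev i) i) _)
    rwa [Module.DirectLimit.of_f, Module.DirectLimit.of_f] at e
  · intro y
    obtain ⟨z, rfl⟩ := cls_surjective L i y
    obtain ⟨n, w, hw⟩ := hsurj i z.1
    have hd : ((ψ n).f _).hom (((G n).d i (c.next i)).hom w) = 0 := by
      refine ((ConcreteCategory.congr_hom ((ψ n).comm i (c.next i)) w).symm).trans ?_
      show (L.d i (c.next i)).hom (((ψ n).f i).hom w) = 0
      rw [hw]
      exact LinearMap.mem_ker.1 z.2
    obtain ⟨m, hm, hm'⟩ := hinj n _ _ hd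
    have hk : ((t n m hm).f i).hom w ∈ LinearMap.ker ((G m).d i (c.next i)).hom :=
      LinearMap.mem_ker.2 ((ConcreteCategory.congr_hom ((t n m hm).comm i (c.next i)) w).trans hm')
    refine ⟨Module.DirectLimit.of A ℕ _ _ m (cls (G m) i ⟨_, hk⟩), ?_⟩
    simp only [F, Module.DirectLimit.lift_of, homologyMap_cls]
    exact congrArg (cls L i) (Subtype.ext ((hψ' n m hm i w).trans hw))

end Groth.Agent.Koszul70
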